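import Mathlib
import Cfsg.Agent.H559.ActFrob

/-!
# Norms of elements acting on the elements of order `p` of the centre of a nilpotent normal subgroup (helper559)

* `frob_norm`, `frob_norm_cyclic` : Frobenius groups: if the norm of the complement vanishes then the kernel acts
  trivially;
* `lift_norm` : `y : G ⧸ R` with non-trivial norm on `omZ p R`: there is `g : G` with `p * orderOf y ∣ orderOf g`;
* `lift_fix`, `lift_fix_two` : the same for elements of order prime to `p` with non-trivial fixed points.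
-/

set_option autoImplicit false

namespace Cfsg.Agent.H559.Row

open Finset

section Frob

variable {V H K : Type*} [CommGroup V] [Group H] [Group K]

/-- **Frobenius groups: if the norm of the complement vanishes on `V`, then the kernel acts trivially.** -/
theorem frob_norm [Finite V] [Finite K] (ρ : H →* MulAut V) (φ : K →* H) (f : H) (α : K →* K)
    (hα : ∀ k, f * φ k = φ (α k) * f) (r : ℕ) (hr : 0 < r)
    (hinj : ∀ i, 0 < i → i < r → Function.Injective fun k : K => k * ((⇑α)^[i] k)⁻¹)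
    (hcop : (Nat.card V).Coprime (Nat.card K)) (hN : ∀ v, ∏ i ∈ range r, ρ (f ^ i) v = 1) (k : K) (v : V) :
    ρ (φ k) v = v := by
  classical
  have _ := Fintype.ofFinite K
  -- the iterates
  have hpow : ∀ (i : ℕ) (k : K), f ^ i * φ k = φ ((⇑α)^[i] k) * f ^ i := by
    intro i
    induction i with
    | zero => intro k; simp
    | succ i ih =>
      intro k
      rw [pow_succ, mul_assoc, hα, ← mul_assoc, ih, mul_assoc, ← pow_succ, Function.iterate_succ_apply]
  have hinv : ∀ (i : ℕ) (k : K), (⇑α)^[i] k⁻¹ = ((⇑α)^[i] k)⁻¹ := by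
    intro i
    induction i with
    | zero => intro k; rfl
    | succ i ih => intro k; rw [Function.iterate_succ_apply, Function.iterate_succ_apply, map_inv, ih]
  -- the conjugates
  have hC : ∀ (k : K) (v : V), ∏ i ∈ range r, ρ (φ (k * ((⇑α)^[i] k)⁻¹) * f ^ i) v = 1 := by
    intro k v
    have h1 : ∀ i, φ (k * ((⇑α)^[i] k)⁻¹) * f ^ i = φ k * (f ^ i * φ k⁻¹) := by
      intro i
      rw [hpow, hinv, map_mul, mul_assoc]
    have h2 : ∏ i ∈ range r, ρ (φ (k * ((⇑α)^[i] k)⁻¹) * f ^ i) v =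
        ρ (φ k) (∏ i ∈ range r, ρ (f ^ i) (ρ (φ k⁻¹) v)) := by
      rw [map_prod]
      apply prod_congr rfl
      intro i _
      rw [h1, map_mul, map_mul, MulAut.mul_apply, MulAut.mul_apply]
    rw [h2, hN, map_one]
  -- sum over `K`
  have hK : ∀ v : V, v ^ Nat.card K = ∏ k : K, ρ (φ k) v := by
    intro v
    have h1 : ∏ k : K, ∏ i ∈ range r, ρ (φ (k * ((⇑α)^[i] k)⁻¹) * f ^ i) v = 1 :=
      prod_eq_one fun k _ => hC k v
    rw [prod_comm] at h1
    have h2 : ∀ i ∈ range r, ∏ k : K, ρ (φ (k * ((⇑α)^[i] k)⁻¹) * f ^ i) v =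
        if i = 0 then v ^ Nat.card K else ∏ k : K, ρ (φ k) (ρ (f ^ i) v) := by
      intro i hi
      split_ifs with h0
      · subst h0
        simp only [Function.iterate_zero, id_eq, mul_inv_cancel, map_one, pow_zero, mul_one, MulAut.one_apply,
          prod_const, card_univ, Nat.card_eq_fintype_card]
      · have hb : Function.Bijective fun k : K => k * ((⇑α)^[i] k)⁻¹ :=
          Finite.injective_iff_bijective.1 (hinj i (Nat.pos_of_ne_zero h0) (mem_range.1 hi))
        rw [← Function.Bijective.prod_comp hb (fun k => ρ (φ k) (ρ (f ^ i) v))]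
        apply prod_congr rfl
        intro k _
        rw [map_mul, MulAut.mul_apply]
    rw [prod_congr rfl h2] at h1
    obtain ⟨s, rfl⟩ : ∃ s, r = s + 1 := ⟨r - 1, by omega⟩
    rw [prod_range_succ' _ s] at h1
    simp only [Nat.add_eq_zero_iff, one_ne_zero, and_false, if_false, if_true] at h1
    rw [prod_comm] at h1
    have h3 : ∀ k : K, ∏ i ∈ range s, ρ (φ k) (ρ (f ^ (i + 1)) v) = (ρ (φ k) v)⁻¹ := by
      intro k
      rw [← map_prod]
      have h4 := hN v
      rw [prod_range_succ' _ s, pow_zero, map_one, MulAut.one_apply] at h4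
      rw [eq_inv_of_mul_eq_one_left h4, map_inv]
    rw [prod_congr rfl (fun k _ => h3 k), prod_inv_distrib] at h1
    exact (inv_mul_eq_one.1 h1).symm
  -- conclusion
  have h1 : (ρ (φ k) v) ^ Nat.card K = v ^ Nat.card K := by
    rw [← map_pow, hK v, map_prod]
    rw [← Function.Bijective.prod_comp (Group.mulLeft_bijective k) (fun k => ρ (φ k) v)]
    apply prod_congr rfl
    intro k' _
    rw [map_mul, map_mul, MulAut.mul_apply]
  have h2 : (ρ (φ k) v * v⁻¹) ^ Nat.card K = 1 := by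
    rw [mul_pow, h1, inv_pow, mul_inv_cancel]
  have h3 : ρ (φ k) v * v⁻¹ = 1 := by
    have h4 : orderOf (ρ (φ k) v * v⁻¹) ∣ Nat.gcd (Nat.card V) (Nat.card K) :=
      Nat.dvd_gcd (orderOf_dvd_natCard _) (orderOf_dvd_of_pow_eq_one h2)
    rw [hcop] at h4
    exact orderOf_eq_one_iff.1 (Nat.dvd_one.1 h4)
  rw [mul_inv_eq_one] at h3
  exact h3

/-- The case of a kernel of prime order. -/
theorem frob_norm_cyclic [Finite V] (ρ : H →* MulAut V) {p : ℕ} (hp : p.Prime) (y f : H) (hy : y ^ p = 1)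
    (r : ℕ) (hr : 0 < r) (m : ℕ) (hm : f * y * f⁻¹ = y ^ m)
    (hord : ∀ i, 0 < i → i < r → ¬ m ^ i ≡ 1 [MOD p])
    (hcop : ¬ p ∣ Nat.card V) (hN : ∀ v, ∏ i ∈ range r, ρ (f ^ i) v = 1) (v : V) : ρ y v = v := by
  have : Fact p.Prime := ⟨hp⟩
  let φ : Multiplicative (ZMod p) →* H :=
    { toFun := fun k => y ^ (Multiplicative.toAdd k).val
      map_one' := by simp
      map_mul' := by
        intro a b
        rw [toAdd_mul, ZMod.val_add, ← pow_add]
        exact (pow_eq_pow_mod _ hy).symm }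
  have hφ : ∀ k, φ k = y ^ (Multiplicative.toAdd k).val := fun _ => rfl
  have hα : ∀ k, f * φ k = φ ((powMonoidHom m : Multiplicative (ZMod p) →* Multiplicative (ZMod p)) k) * f := by
    intro k
    have h1 : f * φ k * f⁻¹ = φ (powMonoidHom m k) := by
      rw [powMonoidHom_apply, map_pow, hφ, conj_pow.symm, hm, ← pow_mul, ← pow_mul, mul_comm]
    rw [← h1]
    group
  have hit : ∀ (i : ℕ) (k : Multiplicative (ZMod p)), (⇑(powMonoidHom m : Multiplicative (ZMod p) →* _))^[i] k = k ^ m ^ i := by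
    intro i
    induction i with
    | zero => intro k; simp
    | succ i ih =>
      intro k
      rw [Function.iterate_succ_apply', ih, powMonoidHom_apply, ← pow_mul, ← pow_succ]
  have h1 := frob_norm ρ φ f (powMonoidHom m) hα r hr (by
    intro i h0 hi a b hab
    simp only [hit] at hab
    have h2 : Multiplicative.toAdd a - (m ^ i : ℕ) • Multiplicative.toAdd a =
      Multiplicative.toAdd b - (m ^ i : ℕ) • Multiplicative.toAdd b := by
      have := congrArg Multiplicative.toAdd hab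
      simpa [sub_eq_add_neg] using this
    rw [nsmul_eq_mul, nsmul_eq_mul] at h2
    have h3 : (1 - ((m ^ i : ℕ) : ZMod p)) * (Multiplicative.toAdd a - Multiplicative.toAdd b) = 0 := by
      linear_combination h2
    rcases mul_eq_zero.1 h3 with h4 | h4
    · exfalso
      apply hord i h0 hi
      rw [← ZMod.natCast_eq_natCast_iff, Nat.cast_one]
      exact (sub_eq_zero.1 h4).symm
    · exact Multiplicative.toAdd.injective (sub_eq_zero.1 h4)) (by
    rw [Nat.card_congr Multiplicative.toAdd, Nat.card_zmod]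
    exact (hp.coprime_iff_not_dvd.2 hcop).symm) hN (Multiplicative.ofAdd 1) v
  have h2 : φ (Multiplicative.ofAdd 1) = y := by
    rw [hφ, toAdd_ofAdd, ZMod.val_one, pow_one]
  rwa [h2] at h1

/-- the norm of an element is fixed by it -/
theorem norm_fixed (ρ : H →* MulAut V) (f : H) (r : ℕ) (hf : f ^ r = 1) (v : V) :
    ρ f (∏ i ∈ range r, ρ (f ^ i) v) = ∏ i ∈ range r, ρ (f ^ i) v := by
  rcases Nat.eq_zero_or_pos r with rfl | hr
  · simp
  rw [map_prod]
  have h1 : ∏ i ∈ range r, ρ f (ρ (f ^ i) v) = ∏ i ∈ range r, ρ (f ^ (i + 1)) v := by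
    apply prod_congr rfl
    intro i _
    rw [pow_succ', map_mul, MulAut.mul_apply]
  rw [h1]
  obtain ⟨s, rfl⟩ : ∃ s, r = s + 1 := ⟨r - 1, by omega⟩
  rw [prod_range_succ, prod_range_succ' _ s, hf, pow_zero]

end Frob

section Lift

open Subgroup Cfsg.Agent.H559.ActZ Cfsg.Agent.H559.ActFrob

variable {G : Type*} [Group G] [Finite G]

omit [Finite G] in
theorem exists_pow_orderOf {g : G} (hg : 0 < orderOf g) {m : ℕ} (h : m ∣ orderOf g) : ∃ k, orderOf (g ^ k) = m := by
  obtain ⟨c, hc⟩ := h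
  have hc0 : c ≠ 0 := by
    rintro rfl
    omega
  refine ⟨c, ?_⟩
  rw [orderOf_pow_of_dvd hc0 ⟨m, by rw [hc, mul_comm]⟩, hc]
  exact Nat.mul_div_cancel _ (Nat.pos_of_ne_zero hc0)

/-- non-trivial norm -/
def NormNe (p : ℕ) (R : Subgroup G) [R.Normal] (y : G ⧸ R) (m : ℕ) : Prop :=
  let _ : CommGroup (omZ p R) := commGroup p R
  ∃ v : omZ p R, ∏ i ∈ range m, act p R (y ^ i) v ≠ 1

omit [Finite G] in
theorem coe_prod {p : ℕ} {R : Subgroup G} [R.Normal] (g : G) (v : omZ p R) (m : ℕ) :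
    let _ : CommGroup (omZ p R) := commGroup p R
    ((∏ i ∈ range m, act p R ((QuotientGroup.mk g : G ⧸ R) ^ i) v : omZ p R) : G) * g ^ m = (v * g) ^ m := by
  intro _
  induction m with
  | zero => simp
  | succ m ih =>
    rw [prod_range_succ]
    have h1 : ((act p R ((QuotientGroup.mk g : G ⧸ R) ^ m) v : omZ p R) : G) = g ^ m * v * (g ^ m)⁻¹ := by
      rw [← QuotientGroup.mk_pow, act_mk]
    have h2 : ∀ a b : omZ p R, ((a * b : omZ p R) : G) = a * b := fun _ _ => rfl
    have h3 : ∀ a b : omZ p R, (a : G) * b = b * a := fun a b => congrArg Subtype.val (comm_omZ a b)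
    rw [pow_succ ((v : G) * g) m, ← ih, pow_succ]
    refine (congrArg (· * (g ^ m * g)) (h2 _ _)).trans ?_
    rw [h1]
    group

omit [Finite G] in
theorem lift_norm {p : ℕ} (hp : p.Prime) {R : Subgroup G} [R.Normal] {y : G ⧸ R}
    (h : NormNe p R y (orderOf y)) (hfin : ∀ g : G, 0 < orderOf g) : ∃ g : G, p * orderOf y ∣ orderOf g := by
  let _ : CommGroup (omZ p R) := commGroup p R
  obtain ⟨v, hv⟩ := h
  obtain ⟨g, rfl⟩ := QuotientGroup.mk_surjective y
  set m := orderOf (QuotientGroup.mk g : G ⧸ R) with hm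
  set w : omZ p R := ∏ i ∈ range m, act p R ((QuotientGroup.mk g : G ⧸ R) ^ i) v with hw
  have hkey : (w : G) * g ^ m = (v * g) ^ m := coe_prod g v m
  have hgR : g ^ m ∈ R := by
    rw [← QuotientGroup.eq_one_iff, QuotientGroup.mk_pow, hm, pow_orderOf_eq_one]
  have hc : Commute (w : G) (g ^ m) := (mem_centralizer_iff.1 w.2.1.2 _ hgR).symm
  have hwp : orderOf (w : G) = p := by
    have := Fact.mk hp
    exact orderOf_eq_prime w.2.2 (fun h1 => hv (Subtype.ext h1))
  have hdvd : ∀ g' : G, (QuotientGroup.mk g' : G ⧸ R) = QuotientGroup.mk g → m ∣ orderOf g' := by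
    intro g' h1
    rw [hm, ← h1]
    exact orderOf_map_dvd (QuotientGroup.mk' R) g'
  have hfinish : ∀ g' : G, (QuotientGroup.mk g' : G ⧸ R) = QuotientGroup.mk g → p ∣ orderOf (g' ^ m) →
      p * m ∣ orderOf g' := by
    intro g' h1 h2
    have h3 := hdvd g' h1
    have hm0 : m ≠ 0 := by
      intro h4
      rw [h4] at h3
      have := hfin g'
      rw [Nat.eq_zero_of_zero_dvd h3] at this
      omega
    rw [orderOf_pow_of_dvd hm0 h3] at h2
    obtain ⟨c, hc⟩ := h3
    rw [hc, Nat.mul_div_cancel_left _ (Nat.pos_of_ne_zero hm0)] at h2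
    rw [hc, mul_comm p m]
    exact Nat.mul_dvd_mul_left m h2
  by_cases h1 : p ∣ orderOf (g ^ m)
  · exact ⟨g, hfinish g rfl h1⟩
  · refine ⟨v * g, hfinish _ ?_ ?_⟩
    · rw [QuotientGroup.mk_mul, (QuotientGroup.eq_one_iff (v : G)).2 v.2.1.1, one_mul]
    · rw [← hkey, hc.orderOf_mul_eq_mul_orderOf_of_coprime]
      · rw [hwp]
        exact dvd_mul_right _ _
      · rw [hwp]
        exact (Nat.Prime.coprime_iff_not_dvd hp).2 h1

/-- fixed points and norms of elements of order prime to `p` -/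
theorem lift_fix {p : ℕ} (hp : p.Prime) {R : Subgroup G} [R.Normal] {x : G ⧸ R} (hx : ¬ p ∣ orderOf x)
    {v : omZ p R} (hv : v ≠ 1) (hf : act p R x v = v) : ∃ g : G, orderOf g = orderOf x * p := by
  obtain ⟨g, rfl⟩ := QuotientGroup.mk_surjective x
  obtain ⟨k, hk⟩ := exists_pow_orderOf (orderOf_pos g) (orderOf_map_dvd (QuotientGroup.mk' R) g)
  have hc : Commute (g ^ k) (v : G) := (act_mk_eq hf).pow_left k
  have hwp : orderOf (v : G) = p := by
    have := Fact.mk hp
    exact orderOf_eq_prime v.2.2 (fun h1 => hv (Subtype.ext h1))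
  refine ⟨g ^ k * v, ?_⟩
  rw [hc.orderOf_mul_eq_mul_orderOf_of_coprime, hwp, hk]
  · rfl
  · rw [hwp, hk]
    exact ((Nat.Prime.coprime_iff_not_dvd hp).2 hx).symm

/-- the same for two primes -/
theorem lift_fix_two {p q : ℕ} (hp : p.Prime) (hq : q.Prime) (hpq : p ≠ q) {R : Subgroup G} [R.Normal] {x : G ⧸ R}
    (hx : ¬ p ∣ orderOf x) (hx' : ¬ q ∣ orderOf x) {v : omZ p R} (hv : v ≠ 1) (hf : act p R x v = v)
    {w : omZ q R} (hw : w ≠ 1) (hf' : act q R x w = w) : ∃ g : G, orderOf g = orderOf x * (p * q) := by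
  obtain ⟨g, rfl⟩ := QuotientGroup.mk_surjective x
  obtain ⟨k, hk⟩ := exists_pow_orderOf (orderOf_pos g) (orderOf_map_dvd (QuotientGroup.mk' R) g)
  have hc : Commute (g ^ k) (v : G) := (act_mk_eq hf).pow_left k
  have hc' : Commute (g ^ k) (w : G) := (act_mk_eq hf').pow_left k
  have hwp : orderOf (v : G) = p := by
    have := Fact.mk hp
    exact orderOf_eq_prime v.2.2 (fun h1 => hv (Subtype.ext h1))
  have hwq : orderOf (w : G) = q := by
    have := Fact.mk hq
    exact orderOf_eq_prime w.2.2 (fun h1 => hw (Subtype.ext h1))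
  have hvw : Commute (v : G) (w : G) := (mem_centralizer_iff.1 w.2.1.2 _ v.2.1.1)
  have h1 : orderOf ((v : G) * w) = p * q := by
    rw [hvw.orderOf_mul_eq_mul_orderOf_of_coprime, hwp, hwq]
    rw [hwp, hwq]
    exact (Nat.coprime_primes hp hq).2 hpq
  refine ⟨g ^ k * (v * w), ?_⟩
  rw [(hc.mul_right hc').orderOf_mul_eq_mul_orderOf_of_coprime, h1, hk]
  · rfl
  · rw [h1, hk]
    exact (((Nat.Prime.coprime_iff_not_dvd hp).2 hx).mul_left ((Nat.Prime.coprime_iff_not_dvd hq).2 hx')).symm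

omit [Finite G] in
/-- non-trivial norms give non-trivial fixed points -/
theorem NormNe.fix {p : ℕ} {R : Subgroup G} [R.Normal] {y : G ⧸ R} {m : ℕ} (h : NormNe p R y m) (hy : y ^ m = 1) :
    ∃ v : omZ p R, v ≠ 1 ∧ act p R y v = v := by
  let _ : CommGroup (omZ p R) := commGroup p R
  obtain ⟨v, hv⟩ := h
  exact ⟨_, hv, norm_fixed (act p R) y m hy v⟩

theorem card_omZ_coprime {p q : ℕ} (hp : p.Prime) (hq : q.Prime) (hpq : q ≠ p) (R : Subgroup G) :
    ¬ q ∣ Nat.card (omZ p R) := by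
  have := Fact.mk hp
  obtain ⟨a, ha⟩ := IsPGroup.iff_card.1 (isPGroup_omZ (p := p) R)
  rw [ha]
  intro h
  exact hpq ((Nat.prime_dvd_prime_iff_eq hq hp).1 (hq.dvd_of_dvd_pow h))

/-- **a Frobenius group in `G ⧸ R` with cyclic kernel acting non-trivially** -/
theorem normNe_of_frob {p : ℕ} (hp : p.Prime) {R : Subgroup G} [R.Normal] {r : ℕ} (hr : r.Prime) (hrp : r ≠ p)
    {y f : G ⧸ R} (hy : y ^ r = 1) (hy1 : act p R y ≠ 1) {m : ℕ} (hm : 0 < m) {k : ℕ} (hk : f * y * f⁻¹ = y ^ k)
    (hord : ∀ i, 0 < i → i < m → ¬ k ^ i ≡ 1 [MOD r]) : NormNe p R f m := by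
  let _ : CommGroup (omZ p R) := commGroup p R
  by_contra hcon
  have hN : ∀ v : omZ p R, ∏ i ∈ range m, act p R (f ^ i) v = 1 := by
    intro v
    by_contra h1
    exact hcon ⟨v, h1⟩
  apply hy1
  apply MulEquiv.ext
  intro v
  exact frob_norm_cyclic (act p R) hr y f hy m hm k hk hord (card_omZ_coprime hp hr hrp R) hN v

end Lift

end Cfsg.Agent.H559.Row
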