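import Cfsg.Agent.H559.Row.Rows
import Cfsg.Agent.H436.Simple

/-!
# Rows 11 and 12 of TEAM SPEC-ALT (helper559)
-/

set_option autoImplicit false

namespace Cfsg.Agent.H559.Row

open Cfsg Cfsg.Agent.H357.Sp

theorem hname : HName := fun _ _ _ _ h => Cfsg.Agent.H436.name h

/-- **Row 11 (tasks of TEAM SPEC-ALT).** -/
theorem row11 (ε : ℕ) (hε : ε = 0 ∨ ε = 2) : Row ε 11 11 := row11_of hname hε

/-- **Row 12 (tasks of TEAM SPEC-ALT).** -/
theorem row12 (ε : ℕ) (hε : ε = 0 ∨ ε = 2) : Row ε 12 11 := row12_of hname hε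

end Cfsg.Agent.H559.Row
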