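import Mathlib
import Cfsg.Agent.H559.Row.Basic
import Cfsg.Agent.H559.PrimesLe
import Cfsg.Agent.H511.Sp.TopN
import Cfsg.Agent.H546.Sp.Norm
import Cfsg.Agent.H267.Sp.SpecAlt
import Cfsg.Agent.H361.Alt.PslOrd
import Cfsg.Agent.SignalizersComponents.ComponentExists
import Cfsg.Agent.S3633

/-!
# Rows 13 and 14 of TEAM SPEC-ALT (helper559)

`13` is isolated in the prime graph, so the solvable radical `K` is nilpotent of order prime to `13`; `22` is not an
order, so `11 ∤ |K|` (otherwise all involutions of the socle `M` of `G ⧸ K` would invert `Ω₁ Z(O₁₁(K))`), and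
`|G ⧸ K : M|` divides `12 · 13ᶜ`, so `11` divides `|M|`.
-/

set_option autoImplicit false
set_option linter.unusedSectionVars false

namespace Cfsg.Agent.H559.Row

open Subgroup Cfsg Cfsg.Agent.OrdDiv Cfsg.Agent.H436 Cfsg.Agent.H357.Sp Cfsg.Agent.H559.ActZ
open Cfsg.Agent.H559.CleanPrime Cfsg.Agent.H559.PrimesLe Cfsg.Agent.H559.ActFrob
open Cfsg.Agent.H455.Isolated (Isolated)

universe u

section names

theorem filter_thirteen : (((cand [2, 3, 5, 7, 11, 13] 13 17).filter fun g => sm [2, 3, 5, 7, 11, 13] (ordN g)).filter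
    fun g => Nat.beq (ordN g % 13) 0) =
    [.alt 13, .alt 14, .alt 15, .alt 16, .tits, .suz, .fi22, .td4 2, .psu 3 4, .g2 4, .psp 2 8, .sz 8, .psl 2 64,
      .psl 3 3, .psl 4 3, .psl 5 3, .psl 6 3, .psp 3 3, .oodd 3 3, .oplus 4 3, .g2 3, .psl 3 9, .psl 2 27, .psp 2 5,
      .psu 4 5, .psl 2 25, .psl 2 13] := by
  decide +kernel

/-- the names with all prime divisors `≤ 13` and order divisible by `13` -/
def L13 : List Grp := [.alt 13, .alt 14, .alt 15, .alt 16, .tits, .suz, .fi22, .td4 2, .psu 3 4, .g2 4, .psp 2 8, .sz 8,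
  .psl 2 64, .psl 3 3, .psl 4 3, .psl 5 3, .psl 6 3, .psp 3 3, .oodd 3 3, .oplus 4 3, .g2 3, .psl 3 9, .psl 2 27,
  .psp 2 5, .psu 4 5, .psl 2 25, .psl 2 13]

theorem mem_ps13 {r : ℕ} (hr : r.Prime) (h : r ≤ 13) : r ∈ [2, 3, 5, 7, 11, 13] := by
  interval_cases r <;> first | (exfalso; revert hr; decide) | decide

theorem mem_thirteen {S : Type u} [Group S] [Finite S] {g : Grp} (h : IsNamed g S)
    (hS : ∀ r, r.Prime → r ∣ Nat.card S → r ≤ 13) (h13 : 13 ∣ Nat.card S) : g ∈ L13 := by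
  have h1 := smooth_list h (ps := [2, 3, 5, 7, 11, 13]) (B := 13) (N := 17) (by norm_num) (by decide) (by norm_num)
    (by decide) (fun r hr hd => mem_ps13 hr (hS r hr hd))
  have h2 : g ∈ ((cand [2, 3, 5, 7, 11, 13] 13 17).filter fun g => sm [2, 3, 5, 7, 11, 13] (ordN g)).filter
      fun g => Nat.beq (ordN g % 13) 0 := by
    rw [List.mem_filter]
    refine ⟨h1, ?_⟩
    rw [Nat.beq_eq, ← h.ord]
    exact Nat.mod_eq_zero_of_dvd h13
  rwa [filter_thirteen] at h2

theorem L13_even : (L13.all fun g => Nat.beq (ordN g % 2) 0) = true := by decide +kernel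

theorem filter_L13 : (L13.filter fun g => Nat.beq (ordN g % 11) 0 || Nat.beq (ordN g / 13 % 13) 0) =
    [.alt 13, .alt 14, .alt 15, .alt 16, .suz, .fi22, .psl 5 3, .psl 6 3] := by
  decide +kernel

theorem names13 {S : Type u} [Group S] [Finite S] {g : Grp} (h : IsNamed g S) (hg : g ∈ L13)
    (h11 : 11 ∣ Nat.card S ∨ Nat.card S / 13 % 13 = 0) :
    g = .alt 13 ∨ g = .alt 14 ∨ g = .alt 15 ∨ g = .alt 16 ∨ g = .suz ∨ g = .fi22 ∨ g = .psl 5 3 ∨ g = .psl 6 3 := by
  have h1 : g ∈ L13.filter fun g => Nat.beq (ordN g % 11) 0 || Nat.beq (ordN g / 13 % 13) 0 := by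
    rw [List.mem_filter, Bool.or_eq_true, Nat.beq_eq, Nat.beq_eq, ← h.ord]
    refine ⟨hg, ?_⟩
    rcases h11 with h11 | h11
    · exact Or.inl (Nat.mod_eq_zero_of_dvd h11)
    · exact Or.inr h11
  rw [filter_L13] at h1
  simpa using h1

end names

/-- the data left by the reduction -/
structure DatR (r : ℕ) {G : Type u} [Group G] (K : Subgroup G) [K.Normal] (M : Subgroup (G ⧸ K)) : Prop where
  iso : Isolated G r
  clean : Clean r G
  nil : Group.IsNilpotent K
  nr : ¬ r ∣ Nat.card K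
  normal : M.Normal
  simple : IsSimpleGroup M
  cent : centralizer (M : Set (G ⧸ K)) = ⊥
  mr : r ∣ Nat.card M
  m2 : 2 ∣ Nat.card M

namespace DatR

variable {r : ℕ} {G : Type u} [Group G] [Finite G] {K : Subgroup G} [K.Normal] {M : Subgroup (G ⧸ K)}

theorem not_trivial (D : DatR r K M) (hr : r.Prime) {t : ℕ} (ht : t.Prime) (htK : t ∣ Nat.card K) {s : G ⧸ K}
    (hs : s ∈ M) (h : act t K s = 1) : s = 1 := by
  have := D.simple
  have h1 : r ≠ t := by
    rintro rfl
    exact D.nr htK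
  exact ActZ.not_trivial ht hr h1 D.clean D.nil htK M D.mr hs h

/-- no element of order `2 t`: `t` does not divide `|K|` -/
theorem k_of_two (D : DatR r K M) (hr : r.Prime) {t : ℕ} (ht : t.Prime) (ht2 : t ≠ 2)
    (hno : No (2 * t) G) : ¬ t ∣ Nat.card K := by
  intro htK
  have hMn := D.normal
  have := Fact.mk Nat.prime_two
  let _ : CommGroup (omZ t K) := commGroup t K
  -- involutions invert `omZ t K`
  have hinv : ∀ s : G ⧸ K, orderOf s = 2 → ∀ v : omZ t K, act t K s v = v⁻¹ := by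
    intro s hs v
    have hss : act t K s (act t K s v) = v := by
      rw [← MulAut.mul_apply, ← map_mul, ← pow_two, ← hs, pow_orderOf_eq_one, map_one, MulAut.one_apply]
    by_contra hne
    set w : omZ t K := v * act t K s v with hw
    have hw1 : w ≠ 1 := fun h1 => hne (eq_inv_of_mul_eq_one_right h1)
    have hsw : act t K s w = w := by
      rw [hw, map_mul, hss, mul_comm]
    obtain ⟨g, hg⟩ := lift_fix ht (x := s) (by
      rw [hs]
      intro h
      exact ht2 ((Nat.prime_dvd_prime_iff_eq ht Nat.prime_two).1 h)) hw1 hsw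
    rw [hs] at hg
    exact hno g (by rw [hg])
  obtain ⟨s, hs⟩ := exists_prime_orderOf_dvd_card' 2 D.m2
  have hs' : orderOf (s : G ⧸ K) = 2 := by rw [Subgroup.orderOf_coe, hs]
  have hcen : (s : G ⧸ K) ∈ centralizer (M : Set (G ⧸ K)) := by
    rw [mem_centralizer_iff]
    intro m _
    have h1 : orderOf (m * s * m⁻¹) = 2 := by
      rw [← hs']
      exact orderOf_injective (MulAut.conj m).toMonoidHom (MulAut.conj m).injective (s : G ⧸ K)
    have h2 : act t K (m * s * m⁻¹ * s) = 1 := by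
      apply MulEquiv.ext
      intro v
      rw [map_mul, MulAut.mul_apply, hinv _ hs', map_inv, hinv _ h1, inv_inv, MulAut.one_apply]
    have h3 := D.not_trivial hr ht htK (M.mul_mem (hMn.conj_mem _ s.2 m) s.2) h2
    have h4 : (s : G ⧸ K)⁻¹ = s := by
      have h5 : (s : G ⧸ K) * s = 1 := by rw [← pow_two, ← hs', pow_orderOf_eq_one]
      exact inv_eq_of_mul_eq_one_left h5
    have h5 : m * s * m⁻¹ = s := by
      rw [← h4]
      exact eq_inv_of_mul_eq_one_left (by rw [h4]; exact h3)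
    have h6 : m * s = s * m := by
      calc m * s = m * s * m⁻¹ * m := by group
        _ = s * m := by rw [h5]
    exact h6
  rw [D.cent, mem_bot] at hcen
  rw [hcen, orderOf_one] at hs'
  omega

/-- a prime not dividing `r ^ c (r - 1)` divides `|K|` or `|M|` -/
theorem dvd_of (D : DatR r K M) (hr : r.Prime) {q : ℕ} (hq : q.Prime) (hqr : q ≠ r) (hq1 : ¬ q ∣ r - 1)
    (hqG : q ∣ Nat.card G) (hqK : ¬ q ∣ Nat.card K) : q ∣ Nat.card M ∨ Nat.card M / r % r = 0 := by
  by_contra hcon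
  push Not at hcon
  obtain ⟨h1, h2⟩ := hcon
  have hMn := D.normal
  obtain ⟨b, hb⟩ := D.mr
  have hb' : Nat.card M / r = b := by rw [hb]; exact Nat.mul_div_cancel_left _ hr.pos
  rw [hb'] at h2
  obtain ⟨c, hc⟩ := Cfsg.Agent.H455.SylFrob.index_dvd (D.iso.quotient K) hr M hb rfl (Nat.pos_of_ne_zero h2)
  have h3 := Subgroup.card_eq_card_quotient_mul_card_subgroup K
  have h4 := Subgroup.card_mul_index M
  rw [h3, ← h4] at hqG
  rcases hq.dvd_mul.1 hqG with h5 | h5
  · rcases hq.dvd_mul.1 h5 with h6 | h6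
    · exact h1 h6
    · have h7 : q ∣ r ^ c * (r - 1) := (h6.mul_right _).trans hc
      rcases hq.dvd_mul.1 h7 with h8 | h8
      · exact hqr ((Nat.prime_dvd_prime_iff_eq hq hr).1 (hq.dvd_of_dvd_pow h8))
      · exact hq1 h8
  · exact hqK h5

/-- elements of order prime to the index -/
theorem mem_of_coprime (D : DatR r K M) {x : G ⧸ K} (hx : (M.index).Coprime (orderOf x)) : x ∈ M := by
  have hMn := D.normal
  obtain ⟨m, hm⟩ := exists_pow_eq_self_of_coprime hx
  rw [← hm]
  exact M.pow_mem (Subgroup.pow_index_mem M x) m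

/-- a Frobenius group with kernel of prime order in `M` -/
theorem normNe (D : DatR r K M) (hr : r.Prime) {q : ℕ} (hq : q.Prime) {x z : G ⧸ K} (hx : orderOf x = q) (hxM : x ∈ M)
    {n : ℕ} (hn : 0 < n) {k : ℕ} (hk : z * x * z⁻¹ = x ^ k) (hord : ∀ i, 0 < i → i < n → ¬ k ^ i ≡ 1 [MOD q])
    {t : ℕ} (ht : t.Prime) (htq : q ≠ t) (htK : t ∣ Nat.card K) : NormNe t K z n := by
  refine normNe_of_frob ht (r := q) hq htq (y := x) (f := z) (by rw [← hx, pow_orderOf_eq_one]) ?_ hn (k := k) hk hord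
  intro h1
  have h2 := D.not_trivial hr ht htK hxM h1
  rw [h2, orderOf_one] at hx
  exact hq.one_lt.ne hx

end DatR

end Cfsg.Agent.H559.Row
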