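import Mathlib
import Cfsg.Agent.H559.Row.NonSolv
import Cfsg.Agent.H559.Row.Orders
import Cfsg.Agent.H559.Row.UFive
import Cfsg.Agent.H559.Row.USix
import Cfsg.Agent.H559.Row.HSEleven
import Cfsg.Agent.H559.Row.McLRow
import Cfsg.Agent.H455.NoNine

/-!
# Rows 11 and 12 from the names of the simple groups (helper559)
-/

set_option autoImplicit false
set_option linter.unusedSectionVars false

namespace Cfsg.Agent.H559.Row

open Subgroup Cfsg Cfsg.Agent.OrdDiv Cfsg.Agent.H436 Cfsg.Agent.H357.Sp

/-- every simple group has a name -/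
def HName : Prop := ∀ (S : Type) [Group S] [Finite S] [IsSimpleGroup S], ¬ IsMulCommutative S → ∃ g, IsNamed g S

theorem has87_hs {S : Type} [Group S] [Finite S] (h : Spor.IsoHS S) : Has87 S := by
  obtain ⟨s, t0, t1, t2, h1, h2, h3, h4, h5, h6, h7, h8, h9⟩ := (Cfsg.Agent.H403.HSD.fdat h).st
  have e1 : t1 = s * t0 * s⁻¹ := by rw [h3]; group
  have e2 : t2 = s * t1 * s⁻¹ := by rw [h4]; group
  have e3 : t0 * t1 = s * t2 * s⁻¹ := by rw [h5]; group
  have hrel : EightSeven.Rel s t0 := by
    refine ⟨h1, by rw [pow_two, h8], h9, ?_⟩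
    have e4 : s ^ 3 * t0 * (s ^ 3)⁻¹ = s * (s * (s * t0 * s⁻¹) * s⁻¹) * s⁻¹ := by
      have : s ^ 3 = s * s * s := by rw [pow_succ, pow_two]
      rw [this]
      group
    rw [e4, ← e1, ← e2, ← e3]
  exact Has87.of_rel hrel

theorem has87_m22 {S : Type} [Group S] [Finite S] (h : Spor.IsoM22 S) : Has87 S := by
  obtain ⟨e⟩ := h
  obtain ⟨z, t, hz, ht, ht1, hzt⟩ := MElts.rel
  have hrel : EightSeven.Rel (e.symm z) (e.symm t) := by
    refine ⟨by rw [← map_pow, hz, map_one], by rw [← map_pow, ht, map_one], ?_, ?_⟩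
    · intro h1
      exact ht1 ((MulEquiv.map_eq_one_iff _).1 h1)
    · have := congrArg e.symm hzt
      simpa only [map_mul, map_inv, map_pow] using this
  exact Has87.of_rel hrel

theorem has87_psu {F : Type} [Field F] [Fintype F] (hF : Fintype.card F = 4) : Has87 (Cfsg.PSU 6 F 2) := by
  obtain ⟨φ, α, x, hφ, hx, hα, hinj⟩ := Cfsg.Agent.H852.USixElts.frob_eight_seven hF
  refine ⟨_, inferInstance, inferInstance, φ, Multiplicative.ofAdd (1, 0, 0), α, x, by decide, ?_, hx, hα, hinj⟩
  intro h1
  rw [← map_one φ] at h1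
  have h3 := hφ h1
  revert h3
  decide

/-- **Row 11.** -/
theorem row11_of (hname : HName) {ε : ℕ} (hε : ε = 0 ∨ ε = 2) : Row ε 11 11 := by
  intro G _ _ h
  rcases reduction hε (Or.inl rfl) h (nonsolvable_eleven hε h) hname with hres | ⟨K, hKn, M, g, D, hg, hgL⟩
  · exact hres
  exfalso
  have h7 := eleven_dvd D hε h
  have hcard := hg.ord
  simp only [L, List.mem_cons, List.not_mem_nil, or_false] at hgL
  rcases hgL with rfl | rfl | rfl | rfl | rfl | rfl | rfl | rfl
  · have hc : Nat.card M = 7920 := by rw [hcard]; decide +kernel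
    rw [hc] at h7
    revert h7
    norm_num
  · have hc : Nat.card M = 95040 := by rw [hcard]; decide +kernel
    rw [hc] at h7
    revert h7
    norm_num
  · -- `M22`
    have hr : Spor.IsoM22 M := hg.real
    have hc : Nat.card M = 443520 := by rw [hcard]; decide +kernel
    obtain ⟨e⟩ := id hr
    have h21 : No 21 M := m22_twentyone.equiv e
    rcases hε with rfl | rfl
    · exact eleven_zero D h h21 (m22_fourteen.equiv e) (has87_m22 hr) (by rw [hc]; norm_num)
    · exact eleven_ten D h h21 (m22_ten.equiv e)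
  · -- `McL`
    have hr : Spor.IsoMcL M := hg.real
    rcases hε with rfl | rfl
    · obtain ⟨-, -, -, ⟨L⟩⟩ := Cfsg.Agent.TypeM.FactsMcL.facts hr
      exact McLRow.eleven D h (mcl_twentyone hr) L
    · obtain ⟨x, hx⟩ := mcl_thirty hr
      have h30 : No 30 G := No.of_spec h (by decide +kernel)
      exact no_socle h30 x (by rw [hx])
  · -- `HS`
    have hr : Spor.IsoHS M := hg.real
    have hc : Nat.card M = 44352000 := by rw [hcard]; decide +kernel
    rcases hε with rfl | rfl
    · exact eleven_zero D h (hs_twentyone hr) (hs_fourteen hr) (has87_hs hr) (by rw [hc]; norm_num)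
    · exact eleven_conf D h (hs_twentyone hr) (HSConf.hasConf hr)
  · have hc : Nat.card M = 13685760 := by rw [hcard]; decide +kernel
    rw [hc] at h7
    revert h7
    norm_num
  · -- `U₆(2)`
    obtain ⟨F, i1, i2, hF, ⟨e⟩⟩ := hg.real
    have hF4 : Fintype.card F = 4 := by rw [hF]; norm_num
    have hc : Nat.card M = 9196830720 := by rw [hcard]; decide +kernel
    have hfin : Finite (Cfsg.PSU 6 F 2) := Finite.of_equiv _ e.toEquiv
    have h21 : No 21 M :=
      (no_of_clean (S := Cfsg.PSU 6 F 2) (r := 7) (k := 3) (by norm_num) (USixSpec.seven hF4) (by norm_num)).equiv e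
    have h14 : No 14 M :=
      (no_of_clean (S := Cfsg.PSU 6 F 2) (r := 7) (k := 2) (by norm_num) (USixSpec.seven hF4) (by norm_num)).equiv e
    rcases hε with rfl | rfl
    · exact eleven_zero D h h21 h14 ((has87_psu hF4).congr e.symm) (by rw [hc]; norm_num)
    · obtain ⟨x, hx⟩ := USix.exists_eighteen hF4
      have h18 : No 18 G := No.of_spec h (by decide +kernel)
      exact no_socle h18 (e.symm x) (by rw [MulEquiv.orderOf_eq, hx])
  · have hc : Nat.card M = 660 := by rw [hcard]; decide +kernel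
    rw [hc] at h7
    revert h7
    norm_num

/-- **Row 12.** -/
theorem row12_of (hname : HName) {ε : ℕ} (hε : ε = 0 ∨ ε = 2) : Row ε 12 11 := by
  intro G _ _ h
  rcases reduction hε (Or.inr rfl) h (nonsolvable_twelve hε h) hname with hres | ⟨K, hKn, M, g, D, hg, hgL⟩
  · exact hres
  exfalso
  have hcard := hg.ord
  have h9 : W 9 + (if Even 9 then ε else 0) ≤ 12 := by rcases hε with rfl | rfl <;> decide +kernel
  have h15 : W 15 + (if Even 15 then ε else 0) ≤ 12 := by rcases hε with rfl | rfl <;> decide +kernel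
  have h20 : W (2 * 10) + (if Even (2 * 10) then ε else 0) ≤ 12 := by rcases hε with rfl | rfl <;> decide +kernel
  simp only [L, List.mem_cons, List.not_mem_nil, or_false] at hgL
  rcases hgL with rfl | rfl | rfl | rfl | rfl | rfl | rfl | rfl
  · have hc : Nat.card M = 7920 := by rw [hcard]; decide +kernel
    exact twelve_odd D hε h (no_of_card (by rw [hc]; norm_num)) (m11_nine hg.real) (by norm_num) (by norm_num)
      (by norm_num) (by norm_num) h9
  · have hc : Nat.card M = 95040 := by rw [hcard]; decide +kernel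
    obtain ⟨e⟩ : Spor.IsoM12 M := hg.real
    exact twelve_odd D hε h (no_of_card (by rw [hc]; norm_num)) (m12_fifteen.equiv e) (by norm_num) (by norm_num)
      (by norm_num) (by norm_num) h15
  · -- `M22`
    obtain ⟨e⟩ : Spor.IsoM22 M := hg.real
    exact twelve_odd D hε h (m22_thirtyfive.equiv e)
      ((no_of_ne Cfsg.Agent.H455.NoNine.m22).equiv e) (by norm_num) (by norm_num) (by norm_num) (by norm_num) h9
  · -- `McL`
    have hr : Spor.IsoMcL M := hg.real
    obtain ⟨-, -, -, ⟨L⟩⟩ := Cfsg.Agent.TypeM.FactsMcL.facts hr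
    exact McLRow.twelve D hε h (mcl_thirtyfive hr) L
  · -- `HS`
    have hr : Spor.IsoHS M := hg.real
    have hc : Nat.card M = 44352000 := by rw [hcard]; decide +kernel
    exact twelve_odd D hε h (hs_thirtyfive hr) (hs_nine hr hc) (by norm_num) (by norm_num) (by norm_num)
      (by norm_num) h9
  · -- `U₅(2)`
    have hc : Nat.card M = 13685760 := by rw [hcard]; decide +kernel
    obtain ⟨F, i1, i2, hF, ⟨e⟩⟩ := hg.real
    have hF4 : Fintype.card F = 4 := by rw [hF]; norm_num
    exact twelve_even D hε h (no_of_card (by rw [hc]; norm_num)) ((UFive.ten hF4).equiv e) (by norm_num)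
      (by norm_num) (by norm_num) h20
  · -- `U₆(2)`
    obtain ⟨F, i1, i2, hF, ⟨e⟩⟩ := hg.real
    have hF4 : Fintype.card F = 4 := by rw [hF]; norm_num
    have hc : Nat.card M = 9196830720 := by rw [hcard]; decide +kernel
    have hfin : Finite (Cfsg.PSU 6 F 2) := Finite.of_equiv _ e.toEquiv
    have h35 : No 35 M :=
      (no_of_clean (S := Cfsg.PSU 6 F 2) (r := 7) (k := 5) (by norm_num) (USixSpec.seven hF4) (by norm_num)).equiv e
    obtain ⟨x, t, z, hx, ht, hz, hxt, hxz, htz⟩ := Cfsg.Agent.H852.USixElts.five_sym hF4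
    refine twelve_sym D hε h h35 (by rw [hc]; norm_num) (x := e.symm x) (t := e.symm t) (z := e.symm z)
      (by rw [MulEquiv.orderOf_eq, hx]) (by rw [MulEquiv.orderOf_eq, ht]) (by rw [MulEquiv.orderOf_eq, hz]) ?_ ?_ ?_
    · rw [← map_mul, hxt, map_mul]
    · rw [← map_mul, hxz, map_mul]
    · rw [← map_inv, ← map_mul, ← map_mul, htz, map_inv]
  · have hc : Nat.card M = 660 := by rw [hcard]; decide +kernel
    exact twelve_odd D hε h (no_of_card (by rw [hc]; norm_num)) (no_of_card (by rw [hc]; norm_num)) (by norm_num)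
      (by norm_num) (by norm_num) (by norm_num) h9

end Cfsg.Agent.H559.Row
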